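import Cfsg.Agent.J4NonLocal.UThree.El
import Cfsg.Agent.J4NonLocal.UThree.Data.Words
import Cfsg.Agent.J4NonLocal.Count

/-!
Tests showing that a word has order divisible by 7 and by one of 2, 5, 11, with conjugates of letters by middle
factors written through inverse letters.
-/

set_option autoImplicit false
set_option maxRecDepth 20000
set_option Elab.async false

namespace Cfsg.Lib.J4NonLocal.UThree

open Cfsg Cfsg.Lib.J4Cert

/-- The inverse of a letter as a word. -/
def invL : List (ℕ × List ℕ) :=
  [(0, [0, 0]), (1, [1, 1]), (2, [2, 2, 2, 2, 2, 2, 2]), (4, [4, 4]), (5, [5]), (8, [9]), (9, [8]), (10, [11]),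
    (11, [10]), (18, [19]), (19, [18])]

/-- The inverse of a letter. -/
def inv1 (k : ℕ) : List ℕ := (invL.find? fun e => e.1 == k).elim [] Prod.snd

/-- The inverse of a word. -/
def invW : List ℕ → List ℕ
  | [] => []
  | k :: w => invW w ++ inv1 k

/-- A word has only letters with a listed inverse. -/
def invable (w : List ℕ) : Bool := w.all fun k => (invL.map Prod.fst).elem k

/-- A certificate word written out: numbers from 1000 stand for conjugates of the given letters by the word. -/
def conjW (ms rep tok : List ℕ) : List ℕ :=
  tok.flatMap fun k => bif Nat.blt k 4 then [k] else invW rep ++ (ms.getD (k - 1000) 0 :: rep)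

/-- A certificate word uses low letters and the placeholders. -/
def tokOK (m : ℕ) (tok : List ℕ) : Bool := tok.all fun k => Nat.blt k 4 || (Nat.ble 1000 k && Nat.blt k (1000 + m))

/-- Two vectors show that the order of a word is divisible by 7 and by another prime. -/
def pairOK (w : List ℕ) (q z z' : ℕ) : Bool :=
  [2, 5, 11].elem q && ordCert ptabs 20 q (w, z) && ordCert ptabs 20 7 (w, z')

/-- The certificates of the middle factors. -/
def conjOK (ms : List ℕ) (reps : List (List ℕ)) (L : List (ℕ × ℕ × List ℕ × ℕ × ℕ)) : Bool :=
  L.all fun c => (fun r => invable r && tokOK ms.length c.2.2.1 &&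
    pairOK (conjW ms r c.2.2.1) c.2.1 c.2.2.2.1 c.2.2.2.2) (reps.getD c.1 [])

end Cfsg.Lib.J4NonLocal.UThree
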