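import Cfsg.Agent.J4NonLocal.UThree.Base
import Cfsg.Agent.J4NonLocal.UThree.Data.Seven
import Cfsg.Agent.J4NonLocal.UThree.Data.Alpha
import Cfsg.Agent.J4NonLocal.UThree.Data.Beta
import Cfsg.Agent.J4Maximal.Base

/-!
The finite checks for the subgroup U₃(3).
-/

set_option autoImplicit false
set_option maxRecDepth 20000
set_option Elab.async false

namespace Cfsg.Lib.J4NonLocal.UThree

open Cfsg.Lib.J4Cert Cfsg.Lib.J4Maximal

/-- Repetitions of a letter. -/
def rp (k n : ℕ) : List ℕ := List.replicate n k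

/-- The relations of the four letters, with letter 4 for the commutator. -/
def rels : List (List ℕ × List ℕ) :=
  [([4, 1, 0], [0, 1]), (rp 0 3, []), (rp 1 3, []), ([4, 0], [0, 4]), ([4, 1], [1, 4]), (rp 2 8, []), ([3, 3], []),
   ([3, 2, 3] ++ rp 2 3, []), ([2, 0], rp 0 2 ++ rp 1 1 ++ rp 4 2 ++ [2]),
   ([2, 1], rp 0 2 ++ rp 1 2 ++ rp 4 1 ++ [2]), ([3] ++ rp 4 2 ++ [3], rp 4 1 ++ rp 2 6 ++ [3] ++ rp 4 1),
   ([3, 0] ++ rp 4 2 ++ [3], rp 0 1 ++ rp 1 1 ++ rp 2 5 ++ [3] ++ rp 0 1 ++ rp 1 2 ++ rp 4 1)]

theorem rels_ok : (rels.all fun r => sameW pm r.1 r.2) = true := by decide +kernel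

/-- The letters that are words in the generators, and the nontrivial elements. -/
def knownOK : Bool :=
  sameW pm [5] sW && sameW pm [6] qW && sameW pm [7] rW && ([sW, qW, rW].all fun w => w.all fun k => Nat.blt k 4) &&
    sameW pm (rp 6 7) [] && !sameW pm [6] [] && !sameW pm [4] [] && !sameW pm [0] [] &&
    sameW pm [4, 17] ([17] ++ rp 0 hExp) && (hExp == 1 || hExp == 2)

theorem known_ok : knownOK = true := by decide +kernel

theorem inv_ok : (invL.all fun e => sameW pm (e.1 :: e.2) []) = true := by decide +kernel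

/-- The word of an entry of the table of 27 elements. -/
def pW (i : ℕ) : List ℕ := (pTab.getD i ([], 0, 0, [], 0, 0)).1

/-- The table of the 27 elements. -/
def pTabOK : Bool :=
  pTab.all fun e => e.1.all (fun k => Nat.blt k 2) && Nat.blt e.2.1 27 && Nat.blt e.2.2.1 27 &&
    sameW pm (e.1 ++ [0]) (pW e.2.1) && sameW pm (e.1 ++ [1]) (pW e.2.2.1) && sameW pm (e.1 ++ e.1 ++ e.1) [] &&
    (bif e.2.2.2.2.1 == 0 then sameW pm e.1 (rp 4 e.2.2.2.2.2)
      else (e.2.2.2.2.1 == 1 || e.2.2.2.2.1 == 2) && e.2.2.2.1.all (fun k => Nat.blt k 3) &&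
        sameW pm (e.2.2.2.1 ++ e.1) (rp 0 e.2.2.2.2.1 ++ e.2.2.2.1))

theorem pTab_ok : pTabOK = true := by decide +kernel
theorem pTab_keys : incr (fun e => act ptabs e.1 alpha.w) (2 ^ 112) 0 pTab = true := by decide +kernel
theorem pTab_one : pTab.length = 27 ∧ (pTab.any fun e => e.1 == []) = true := by decide +kernel

/-- The letters normalising the group of order 27. -/
def pNormOK : Bool :=
  ([0, 1, 2, 12].all fun l => pNorm.any fun e => e.1 == l) && pNorm.all fun e =>
    Nat.blt e.2.1 27 && Nat.blt e.2.2 27 &&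
      sameW pm [e.1, 0] (pW e.2.1 ++ [e.1]) && sameW pm [e.1, 1] (pW e.2.2 ++ [e.1])

theorem pNorm_ok : pNormOK = true := by decide +kernel

/-- The letters normalising the group of order 9. -/
def dNormOK : Bool :=
  sameW pm [4, 0] [0, 4] && ([0, 4, 5, 13, 14, 17].all fun l => dNorm.any fun e => e.1 == l) && dNorm.all fun e =>
    sameW pm [e.1, 4] (rp 4 e.2.1.1 ++ rp 0 e.2.1.2 ++ [e.1]) &&
      sameW pm [e.1, 0] (rp 4 e.2.2.1 ++ rp 0 e.2.2.2 ++ [e.1])

theorem dNorm_ok : dNormOK = true := by decide +kernel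

theorem xExp_ok : (xExp.all fun e =>
    sameW pm ([e.1] ++ (List.replicate e.2 [4]).flatten) ([4] ++ [e.1])) = true := by decide +kernel
theorem yExp_ok : (yExp.all fun e =>
    sameW pm ([e.1] ++ (List.replicate e.2 [0]).flatten) ([0] ++ [e.1])) = true := by decide +kernel
theorem sevenExp_ok : (sevenExp.all fun e =>
    sameW pm ([e.1] ++ (List.replicate e.2 [6]).flatten) ([6] ++ [e.1])) = true := by decide +kernel

theorem seven_shape : seven.shapeOK ptabs 20 = true := by decide +kernel
theorem seven_keys : seven.keysOK ptabs = true := by decide +kernel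
theorem seven_crt : seven.crtOK ptabs 20 8 = true := by decide +kernel
theorem seven_low : ((seven.fix ++ seven.lef ++ seven.rig).all fun w => w.all fun k => Nat.blt k 8) = true := by
  decide +kernel
theorem seven_in : ([seven.fix, seven.lef, seven.reps, seven.rig].all fun L => L.all fun w =>
    w.all fun k => (sevenExp.map Prod.fst).elem k) = true := by decide +kernel
theorem seven_count : seven.fix.length = 21 ∧ seven.ents.length = 120 ∧ seven.zeros.length = 1 := by decide +kernel

theorem alpha_shape : alpha.shapeOK ptabs 20 = true := by decide +kernel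
theorem alpha_in : ([alpha.fix, alpha.lef, alpha.reps, alpha.rig].all fun L => L.all fun w =>
    w.all fun k => (xExp.map Prod.fst).elem k) = true := by decide +kernel
theorem alpha_fix : (alpha.fix.all fun w => w.all fun k => [0, 1, 2].elem k) = true ∧
    (alpha.lef.all fun w => w.all fun k => [0, 1, 2, 12].elem k) = true ∧
    (alpha.rig.all fun w => w.all fun k => [0, 1, 2].elem k) = true := by decide +kernel
theorem alpha_zero : (alpha.zeros.all fun e => e.2.2 == 0) = true ∧ alpha.rig.getD 0 [] = [] ∧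
    alpha.lef.getD 0 [] = [] := by decide +kernel
theorem alpha_count : alpha.fix.length = 216 ∧ alpha.ents.length = 24640 ∧ alpha.reps.length = alphaCrt0.length + 1 ∧
    alpha.lef.length = 4 := by decide +kernel
theorem alpha_cover : alphaCrt0.map (·.1) = List.range' 1 alphaCrt0.length ∧ alphaTail.map (·.1) = [1, 2, 3] := by
  decide +kernel
theorem alpha_crt : conjOK [0, 1] alpha.reps alphaCrt0 = true := by decide +kernel
theorem alpha_tail : (alphaTail.all fun c => c.2.2.1.all (fun k => Nat.blt k 4 || Nat.beq k 1000) &&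
    pairOK (c.2.2.1.flatMap fun k => bif Nat.blt k 4 then [k] else alpha.lef.getD c.1 []) c.2.1 c.2.2.2.1
      c.2.2.2.2) = true := by decide +kernel

/-- All certificates of the middle factors for the second count. -/
def betaCrt : List (ℕ × ℕ × List ℕ × ℕ × ℕ) :=
  betaCrt0 ++ betaCrt1 ++ betaCrt2 ++ betaCrt3 ++ betaCrt4 ++ betaCrt5 ++ betaCrt6 ++ betaCrt7 ++ betaCrt8

theorem beta_shape : beta.shapeOK ptabs 20 = true := by decide +kernel
theorem beta_in : ([beta.fix, beta.lef, beta.reps, beta.rig].all fun L => L.all fun w =>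
    w.all fun k => (yExp.map Prod.fst).elem k) = true := by decide +kernel
theorem beta_fix : (beta.fix.all fun w => w.all fun k => [0, 4, 5, 13, 14].elem k) = true ∧
    (beta.rig.all fun w => w.all fun k => [0, 4, 5].elem k) = true ∧ beta.lef = [[]] := by decide +kernel
theorem beta_count : beta.fix.length = 864 ∧ beta.ents.length = 6160 ∧ beta.reps.length = betaCrt.length + 1 := by
  decide +kernel
theorem beta_cover : betaCrt.map (·.1) = List.range' 1 betaCrt.length := by decide +kernel

/-- The exact row of the prime 3. -/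
def r3u : Row := ⟨27, [(2, 3), (3, 3)], 216, 0, 27⟩
/-- The exact row of the prime 7. -/
def r7u : Row := ⟨7, [(3, 1), (7, 1)], 21, 0, 7⟩

/-- The cofactor of the subgroup U₃(3). -/
def fkV : List (ℕ × ℕ) := [(2, 16), (5, 1), (11, 3), (23, 1), (29, 1), (31, 1), (37, 1), (43, 1)]

/-- The row of the prime 23 without a self-normalising Sylow subgroup. -/
def r23u : Row := ⟨23, [(2, 1), (11, 1), (23, 1)], 1, 23, 23⟩

theorem survivors_ok :
    survivors 6048 fkV [r3u, r7u, r5 1, r11, r23u, r29, r31 1, r37, r43 602] = [1] := by decide +kernel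

end Cfsg.Lib.J4NonLocal.UThree
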