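import Cfsg.Agent.J4NonLocal.UThree.Checks
import Cfsg.Agent.J4NonLocal.Unitary.Main
import Cfsg.Agent.J4NonLocal.Normal
import Cfsg.Agent.Classical.Unitary.Matrix

/-!
A subgroup U₃(3) of the fourth Janko group and its Sylow 3-subgroup.
-/

set_option autoImplicit false
set_option maxRecDepth 20000
set_option synthInstance.maxSize 4000
set_option linter.style.haveILetI false
set_option Elab.async false

open scoped commutatorElement

namespace Cfsg.Lib.J4NonLocal.UThree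

open Cfsg Cfsg.Lib.J4Cert Subgroup

attribute [local irreducible] mB tabs4 vt pm ptabs alpha beta seven

/-- The value of a pool letter. -/
noncomputable def g (k : ℕ) : Spor.J4 := P.el k

/-- The subgroup U₃(3). -/
noncomputable def S : Subgroup Spor.J4 := closure {g 0, g 1, g 2, g 3}

attribute [local irreducible] P

theorem rel_all : g 4 = ⁅g 0, g 1⁆ ∧ Unitary.RelThree (g 0) (g 1) (g 2) (g 3) := by
  have h := rels_ok
  simp only [List.all_eq_true] at h
  have e : ∀ r ∈ rels, P.ev r.1 = P.ev r.2 := fun r hr => P.ev_eq (h r hr)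
  simp only [rels, List.forall_mem_cons, List.not_mem_nil, false_imp_iff, implies_true, and_true, rp, P.ev_append,
    P.ev_cons, P.ev_nil, P.ev_rep, mul_one, pow_one] at e
  obtain ⟨e0, e1, e2, e3, e4, e5, e6, e7, e8, e9, e10, e11⟩ := e
  change g 4 * (g 1 * g 0) = g 0 * g 1 at e0
  have hz : ⁅g 0, g 1⁆ = g 4 := by rw [commutatorElement_def, ← e0]; group
  refine ⟨hz.symm, ⟨e1, e2, ?_, ?_, e5, e6, ?_, ?_, ?_, ?_, ?_⟩⟩
  all_goals try rw [hz]
  · exact e3
  · exact e4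
  · simpa only [g, mul_assoc] using e7
  · simpa only [g, mul_assoc, pow_one] using e8
  · simpa only [g, mul_assoc, pow_one] using e9
  · simpa only [g, mul_assoc, pow_one] using e10
  · simpa only [g, mul_assoc, pow_one] using e11

theorem exists_iso : ∃ (F : Type) (_ : Field F) (_ : Fintype F),
    Fintype.card F = 9 ∧ Nonempty (↥S ≃* Cfsg.PSU 3 F 3) := by
  have h := known_ok
  simp only [knownOK, Bool.and_eq_true, Bool.not_eq_true'] at h
  obtain ⟨F, hF, hF', hc, K, rfl, he⟩ := Unitary.exists_psu_three rel_all.2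
    (fun e => P.ev_ne_one h.1.1.2 ((P.ev_single 0).trans e))
  exact ⟨F, hF, hF', hc, he⟩

theorem card_S : Nat.card S = 6048 := by
  obtain ⟨F, hF, hF', hc, ⟨e⟩⟩ := exists_iso
  have hF2 : Fintype.card F = 3 ^ 2 := by rw [hc]; norm_num
  have hz := Cfsg.Lib.Classical.card_center_SU hF2 (n := 3) (by norm_num)
  have h := Cfsg.Lib.Classical.card_SU_mul hF2 (n := 3) (by norm_num)
  have e2 := Subgroup.card_eq_card_quotient_mul_card_subgroup (Subgroup.center (Cfsg.SU 3 F 3))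
  rw [hz, show Nat.gcd 3 (3 + 1) = 1 by decide, mul_one] at e2
  rw [e2, show Cfsg.Lib.Classical.cardGUFormula 3 3 = (3 + 1) * 6048 by
    simp [Cfsg.Lib.Classical.cardGUFormula, Finset.prod_range_succ]] at h
  exact (Nat.card_congr e.toEquiv).trans (Nat.eq_of_mul_eq_mul_left (by norm_num) h)

theorem known : g 6 ^ 7 = 1 ∧ g 6 ≠ 1 ∧ g 4 ≠ 1 ∧ g 0 ≠ 1 ∧
    g 4 * g 17 = g 17 * g 0 ^ hExp ∧ (hExp = 1 ∨ hExp = 2) := by
  have h := known_ok
  simp only [knownOK, Bool.and_eq_true, Bool.not_eq_true', Bool.or_eq_true, beq_iff_eq] at h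
  obtain ⟨⟨⟨⟨⟨⟨-, h7⟩, h6⟩, h4⟩, h0⟩, hh⟩, he⟩ := h
  refine ⟨(P.ev_rep 6 7).symm.trans (P.ev_eq h7), fun e => P.ev_ne_one h6 ((P.ev_single 6).trans e),
    fun e => P.ev_ne_one h4 ((P.ev_single 4).trans e), fun e => P.ev_ne_one h0 ((P.ev_single 0).trans e), ?_, he⟩
  have := P.ev_eq hh
  simpa only [g, rp, P.ev_cons, P.ev_append, P.ev_nil, P.ev_rep, mul_one] using this

theorem low_mem : ∀ k < 8, g k ∈ S := by
  have h := known_ok
  simp only [knownOK, Bool.and_eq_true, Bool.not_eq_true', Bool.or_eq_true, List.all_eq_true, List.mem_cons,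
    List.not_mem_nil, or_false, forall_eq_or_imp, forall_eq, Nat.blt_eq, beq_iff_eq] at h
  obtain ⟨⟨⟨⟨⟨⟨⟨⟨⟨h5, h6⟩, h7⟩, hs, hq, hr⟩, -⟩, -⟩, -⟩, -⟩, -⟩, -⟩ := h
  have hl : ∀ k < 4, g k ∈ S := fun k hk => subset_closure (by interval_cases k <;> simp)
  intro k hk
  interval_cases k
  · exact hl 0 (by norm_num)
  · exact hl 1 (by norm_num)
  · exact hl 2 (by norm_num)
  · exact hl 3 (by norm_num)
  · rw [rel_all.1, commutatorElement_def]
    exact mul_mem (mul_mem (mul_mem (hl 0 (by norm_num)) (hl 1 (by norm_num))) (inv_mem (hl 0 (by norm_num))))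
      (inv_mem (hl 1 (by norm_num)))
  · show P.el 5 ∈ S
    rw [(P.ev_single 5).symm.trans (P.ev_eq h5)]
    exact P.ev_mem fun j hj => hl j (hs j hj)
  · show P.el 6 ∈ S
    rw [(P.ev_single 6).symm.trans (P.ev_eq h6)]
    exact P.ev_mem fun j hj => hl j (hq j hj)
  · show P.el 7 ∈ S
    rw [(P.ev_single 7).symm.trans (P.ev_eq h7)]
    exact P.ev_mem fun j hj => hl j (hr j hj)

theorem u_ne : g 0 * g 1 ≠ g 1 * g 0 := fun e => known.2.2.1 (by
  rw [rel_all.1, commutatorElement_def, e]; group)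

theorem x_cube : g 4 ^ 3 = 1 := by
  have h := inv_ok
  simp only [List.all_eq_true] at h
  have := P.ev_eq (h (4, [4, 4]) (by simp [invL]))
  rw [← P.ev_nil, ← this]
  simp only [g, P.ev_cons, P.ev_nil, mul_one, pow_three]

theorem y_cube : g 0 ^ 3 = 1 := rel_all.2.u1_pow

theorem y_ne : g 0 ≠ 1 := known.2.2.2.1

/-- The Sylow 3-subgroup of U₃(3). -/
noncomputable def P3 : Subgroup Spor.J4 := closure {g 0, g 1}

/-- The subgroup of order 9 generated by a central and another element of P3. -/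
noncomputable def D9 : Subgroup Spor.J4 := closure {g 4, g 0}

theorem g0_mem : g 0 ∈ P3 := subset_closure (Set.mem_insert _ _)

theorem g1_mem : g 1 ∈ P3 := subset_closure (Set.mem_insert_of_mem _ rfl)

theorem g4_mem : g 4 ∈ P3 := by
  rw [rel_all.1, commutatorElement_def]
  exact mul_mem (mul_mem (mul_mem g0_mem g1_mem) (inv_mem g0_mem)) (inv_mem g1_mem)

theorem g4_D9 : g 4 ∈ D9 := subset_closure (Set.mem_insert _ _)

theorem g0_D9 : g 0 ∈ D9 := subset_closure (Set.mem_insert_of_mem _ (Set.mem_singleton _))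

theorem D9_le : D9 ≤ P3 := (closure_le _).mpr (by
  rintro a (rfl | rfl)
  exacts [g4_mem, g0_mem])

theorem P3_le : P3 ≤ S := (closure_le _).mpr (by
  rintro a (rfl | rfl)
  exacts [low_mem 0 (by norm_num), low_mem 1 (by norm_num)])

theorem table : ∀ e ∈ pTab, (∀ k ∈ e.1, k < 2) ∧ e.2.1 < 27 ∧ e.2.2.1 < 27 ∧
    P.ev e.1 * g 0 = P.ev (pW e.2.1) ∧ P.ev e.1 * g 1 = P.ev (pW e.2.2.1) ∧ P.ev e.1 ^ 3 = 1 ∧
    ((∃ j : ℕ, P.ev e.1 = g 4 ^ j) ∨ ∃ (m : List ℕ) (i : ℕ), (i = 1 ∨ i = 2) ∧ (∀ k ∈ m, k < 3) ∧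
      P.ev m * P.ev e.1 = g 0 ^ i * P.ev m) := by
  have h := pTab_ok
  simp only [pTabOK, List.all_eq_true, Bool.and_eq_true, Nat.blt_eq] at h
  intro e he
  obtain ⟨⟨⟨⟨⟨⟨h1, h2⟩, h3⟩, h4⟩, h5⟩, h6⟩, h7⟩ := h e he
  refine ⟨h1, h2, h3, ?_, ?_, ?_, ?_⟩
  · rw [show g 0 = P.ev [0] from (P.ev_single 0).symm, ← P.ev_append]; exact P.ev_eq h4
  · rw [show g 1 = P.ev [1] from (P.ev_single 1).symm, ← P.ev_append]; exact P.ev_eq h5
  · rw [pow_three, ← mul_assoc, ← P.ev_append, ← P.ev_append]; exact P.ev_eq h6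
  · cases hk : (e.2.2.2.2.1 == 0) with
    | true =>
      rw [hk, cond_true] at h7
      exact Or.inl ⟨_, (P.ev_eq h7).trans (P.ev_rep 4 _)⟩
    | false =>
      rw [hk, cond_false] at h7
      simp only [Bool.and_eq_true, Bool.or_eq_true, beq_iff_eq, List.all_eq_true, Nat.blt_eq] at h7
      refine Or.inr ⟨e.2.2.2.1, e.2.2.2.2.1, h7.1.1, h7.1.2, ?_⟩
      have := P.ev_eq h7.2
      rw [P.ev_append, P.ev_append, rp, P.ev_rep] at this
      exact this

theorem pW_mem {i : ℕ} (hi : i < 27) : ∃ e ∈ pTab, pW i = e.1 := by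
  have hl := pTab_one.1
  refine ⟨pTab[i], List.getElem_mem _, ?_⟩
  rw [pW, List.getD_eq_getElem _ _ (by omega)]
  rfl

theorem P3_elem : ∀ v ∈ P3, ∃ e ∈ pTab, v = P.ev e.1 := by
  intro v hv
  induction hv using Subgroup.closure_induction_right with
  | one =>
    obtain ⟨e, he, h⟩ := List.any_eq_true.mp pTab_one.2
    exact ⟨e, he, by rw [beq_iff_eq.mp h]; rfl⟩
  | mul_right a _ b hb ih =>
    obtain ⟨e, he, rfl⟩ := ih
    obtain ⟨-, h2, h3, h4, h5, -⟩ := table e he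
    rcases hb with rfl | rfl
    · obtain ⟨f, hf, hw⟩ := pW_mem h2; exact ⟨f, hf, by rw [h4, hw]⟩
    · obtain ⟨f, hf, hw⟩ := pW_mem h3; exact ⟨f, hf, by rw [h5, hw]⟩
  | mul_inv_cancel a _ b hb ih =>
    have hb3 : b ^ 3 = 1 := by
      rcases hb with rfl | rfl
      exacts [y_cube, rel_all.2.u2_pow]
    have hinv : b⁻¹ = b * b := inv_eq_of_mul_eq_one_right (by rw [← pow_three]; exact hb3)
    rw [hinv, ← mul_assoc]
    have step : ∀ c : Spor.J4, (∃ e ∈ pTab, c = P.ev e.1) → ∃ e ∈ pTab, c * b = P.ev e.1 := by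
      rintro c ⟨e, he, rfl⟩
      obtain ⟨-, h2, h3, h4, h5, -⟩ := table e he
      rcases hb with rfl | rfl
      · obtain ⟨f, hf, hw⟩ := pW_mem h2; exact ⟨f, hf, by rw [h4, hw]⟩
      · obtain ⟨f, hf, hw⟩ := pW_mem h3; exact ⟨f, hf, by rw [h5, hw]⟩
    exact step _ (step _ ih)

theorem P3_cube {v : Spor.J4} (hv : v ∈ P3) : v ^ 3 = 1 := by
  obtain ⟨e, he, rfl⟩ := P3_elem v hv
  exact (table e he).2.2.2.2.2.1

theorem P3_card : Nat.card P3 = 27 := by
  haveI := finite_J4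
  have hw : alpha.w < 2 ^ 112 := by
    have h := alpha_shape
    simp only [Plan.shapeOK, Bool.and_eq_true, decide_eq_true_eq] at h
    exact h.1.1.1.1.1.1.1.2
  have hp := (incr_bounds _ _ _ _ pTab_keys).2.2
  have hlt : ∀ e ∈ pTab, ∀ k ∈ e.1, k < pm.length := fun e he k hk => by
    have := (table e he).1 k hk
    rw [pm_length]; omega
  let Φ : Fin pTab.length → ↥P3 := fun i => ⟨P.ev (pTab.get i).1, P.ev_mem fun k hk => by
    have := (table _ (List.get_mem pTab i)).1 k hk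
    interval_cases k
    exacts [g0_mem, g1_mem]⟩
  have hb : Function.Bijective Φ := by
    refine ⟨fun i j h => ?_, fun v => ?_⟩
    · have h' : pTab.get i = pTab.get j := by
        refine pairwise_inj hp (List.get_mem _ _) (List.get_mem _ _) ?_
        rw [show alpha.w = (⟨alpha.w, hw⟩ : J4Rep.Vec).1 from rfl, P.act_eq _ (hlt _ (List.get_mem _ _)),
          P.act_eq _ (hlt _ (List.get_mem _ _)), show P.ev (pTab.get i).1 = P.ev (pTab.get j).1 from
            congrArg Subtype.val h]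
      have n1 : pTab.Nodup := hp.imp fun hl he => hl.ne (congrArg (fun e => act ptabs e.1 alpha.w) he)
      exact n1.get_inj_iff.mp h'
    · obtain ⟨e, he, hv⟩ := P3_elem v.1 v.2
      obtain ⟨i, rfl⟩ := List.mem_iff_get.mp he
      exact ⟨i, Subtype.ext hv.symm⟩
  rw [← Nat.card_eq_of_bijective Φ hb, Nat.card_fin, pTab_one.1]

theorem x_comm {v : Spor.J4} (hv : v ∈ P3) : Commute (g 4) v := by
  refine mem_centralizer_singleton_iff.mp (show v ∈ centralizer ({g 4} : Set Spor.J4) from ?_) |>.symm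
  refine (closure_le _).mpr ?_ hv
  rintro a (rfl | rfl)
  · exact mem_centralizer_singleton_iff.mpr (rel_all.1 ▸ rel_all.2.z_u1.symm)
  · exact mem_centralizer_singleton_iff.mpr (rel_all.1 ▸ rel_all.2.z_u2.symm)

theorem conj_mem_closure {n : Spor.J4} {T : Set Spor.J4} {K : Subgroup Spor.J4} (hK : K = closure T)
    (h : ∀ a ∈ T, n * a * n⁻¹ ∈ K) : n ∈ normalizer (K : Set Spor.J4) := by
  haveI := finite_J4
  have hle : K.map (MulAut.conj n).toMonoidHom ≤ K := by
    conv_lhs => rw [hK]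
    rw [MonoidHom.map_closure, closure_le]
    rintro _ ⟨a, ha, rfl⟩
    exact h a ha
  have he := eq_of_le_of_card_ge hle
    (le_of_eq (card_map_of_injective (f := (MulAut.conj n).toMonoidHom) (MulAut.conj n).injective).symm)
  rw [mem_normalizer_iff]
  intro u
  refine ⟨fun hu => hle ⟨u, hu, rfl⟩, fun hu => ?_⟩
  obtain ⟨t, ht, e⟩ : n * u * n⁻¹ ∈ K.map (MulAut.conj n).toMonoidHom := he.symm ▸ hu
  rwa [← (MulAut.conj n).injective (show MulAut.conj n t = MulAut.conj n u from e)]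

theorem P3_normal : ∀ l ∈ [0, 1, 2, 12], g l ∈ normalizer (P3 : Set Spor.J4) := by
  have h := pNorm_ok
  simp only [pNormOK, Bool.and_eq_true, List.all_eq_true, List.any_eq_true, beq_iff_eq, Nat.blt_eq] at h
  intro l hl
  obtain ⟨e, he, rfl⟩ := h.1 l hl
  obtain ⟨⟨⟨ha, hb⟩, h0⟩, h1⟩ := h.2 e he
  have hw : ∀ i, i < 27 → P.ev (pW i) ∈ P3 := fun i hi => P.ev_mem fun k hk => by
    obtain ⟨f, hf, hw⟩ := pW_mem hi
    have := (table f hf).1 k (hw ▸ hk)
    interval_cases k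
    exacts [g0_mem, g1_mem]
  refine conj_mem_closure rfl ?_
  rintro a (rfl | rfl)
  · have e0 := P.ev_eq h0
    rw [P.ev_append, P.ev_cons, P.ev_single, P.ev_single] at e0
    show P.el e.1 * P.el 0 * (P.el e.1)⁻¹ ∈ P3
    rw [e0, mul_inv_cancel_right]
    exact hw _ ha
  · have e1 := P.ev_eq h1
    rw [P.ev_append, P.ev_cons, P.ev_single, P.ev_single] at e1
    show P.el e.1 * P.el 1 * (P.el e.1)⁻¹ ∈ P3
    rw [e1, mul_inv_cancel_right]
    exact hw _ hb

theorem D9_normal : ∀ l ∈ [0, 4, 5, 13, 14, 17], g l ∈ normalizer (D9 : Set Spor.J4) := by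
  have h := dNorm_ok
  simp only [dNormOK, Bool.and_eq_true, List.all_eq_true, List.any_eq_true, beq_iff_eq] at h
  intro l hl
  obtain ⟨e, he, rfl⟩ := h.1.2 l hl
  obtain ⟨h4, h0⟩ := h.2 e he
  have hw : ∀ a b : ℕ, P.ev (rp 4 a ++ rp 0 b) ∈ D9 := fun a b => by
    rw [P.ev_append, rp, rp, P.ev_rep, P.ev_rep]
    exact mul_mem (pow_mem g4_D9 _) (pow_mem g0_D9 _)
  refine conj_mem_closure rfl ?_
  rintro a (rfl | rfl)
  · have e4 := P.ev_eq h4
    rw [P.ev_append, P.ev_cons, P.ev_single, P.ev_single] at e4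
    show P.el e.1 * P.el 4 * (P.el e.1)⁻¹ ∈ D9
    rw [e4, mul_inv_cancel_right]
    exact hw _ _
  · have e0 := P.ev_eq h0
    rw [P.ev_append, P.ev_cons, P.ev_single, P.ev_single] at e0
    show P.el e.1 * P.el 0 * (P.el e.1)⁻¹ ∈ D9
    rw [e0, mul_inv_cancel_right]
    exact hw _ _

theorem x_normal : ∀ l ∈ xExp.map Prod.fst, g l ∈ normalizer (zpowers (g 4) : Set Spor.J4) := by
  have h := P.normalizes (w := [4]) xExp_ok
  rw [P.ev_single] at h
  exact h

theorem y_normal : ∀ l ∈ yExp.map Prod.fst, g l ∈ normalizer (zpowers (g 0) : Set Spor.J4) := by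
  have h := P.normalizes (w := [0]) yExp_ok
  rw [P.ev_single] at h
  exact h

/-- An element of the group of order 27 is a power of the central element or a conjugate of a power of the other. -/
theorem P3_cases {v : Spor.J4} (hv : v ∈ P3) : (∃ j : ℕ, v = g 4 ^ j) ∨ ∃ (m : Spor.J4) (i : ℕ),
    (i = 1 ∨ i = 2) ∧ m ∈ S ∧ m ∈ normalizer (P3 : Set Spor.J4) ∧ m ∈ normalizer (zpowers (g 4) : Set Spor.J4) ∧
      m * v * m⁻¹ = g 0 ^ i := by
  obtain ⟨e, he, rfl⟩ := P3_elem v hv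
  rcases (table e he).2.2.2.2.2.2 with h | ⟨w, i, hi, hw, e'⟩
  · exact Or.inl h
  · refine Or.inr ⟨P.ev w, i, hi, P.ev_mem fun k hk => low_mem k (by have := hw k hk; omega),
      P.ev_mem fun k hk => P3_normal k ?_, P.ev_mem fun k hk => x_normal k ?_, by rw [e', mul_inv_cancel_right]⟩
    · have := hw k hk
      interval_cases k <;> simp
    · have := hw k hk
      interval_cases k <;> decide

end Cfsg.Lib.J4NonLocal.UThree
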