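import Cfsg.Agent.J4NonLocal.UThree.Plans
import Cfsg.Agent.J4NonLocal.Rows
import Cfsg.Agent.J4NonLocal.Cyclic

/-!
The normalisers of elements of order 7 and 3 inside a proper subgroup containing U₃(3).
-/

set_option autoImplicit false
set_option maxRecDepth 20000
set_option synthInstance.maxSize 4000
set_option linter.style.haveILetI false
set_option Elab.async false

namespace Cfsg.Lib.J4NonLocal.UThree

open Cfsg Cfsg.Lib.J4Cert Cfsg.Lib.J4Maximal Subgroup

attribute [local irreducible] mB tabs4 vt pm ptabs P alpha beta seven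

theorem conj_into {p : ℕ} [Fact p.Prime] {C A B : Subgroup Spor.J4} (hA : A ≤ C) (hAp : IsPGroup p A) (hB : B ≤ C)
    (hBc : Nat.card B = p ^ (Nat.card Spor.J4).factorization p) : ∃ k ∈ C, ∀ u ∈ A, k * u * k⁻¹ ∈ B := by
  haveI := finite_J4
  let U : Sylow p Spor.J4 := Sylow.ofCard B hBc
  have hU : (U : Subgroup Spor.J4) = B := Sylow.coe_ofCard _ _
  let PB : Sylow p C := U.subtype (hU.trans_le hB)
  obtain ⟨Q, hQ⟩ := (hAp.comap_of_injective C.subtype C.subtype_injective :
    IsPGroup p (A.comap C.subtype)).exists_le_sylow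
  obtain ⟨k, hk⟩ := MulAction.exists_smul_eq C Q PB
  refine ⟨k, k.2, fun u hu => ?_⟩
  have h1 : MulAut.conj k ⟨u, hA hu⟩ ∈ ((k • Q : Sylow p C) : Subgroup C) :=
    Subgroup.smul_mem_pointwise_smul _ (MulAut.conj k) _ (hQ hu)
  rw [hk, Sylow.coe_subtype, mem_subgroupOf, hU] at h1
  exact h1

theorem map_conj_mem {K : Subgroup Spor.J4} {k u : Spor.J4} :
    u ∈ K.map (MulAut.conj k).toMonoidHom ↔ k⁻¹ * u * k ∈ K := by
  refine ⟨fun h => ?_, fun h => ⟨_, h, ?_⟩⟩
  · obtain ⟨v, hv, rfl⟩ := h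
    show k⁻¹ * (k * v * k⁻¹) * k ∈ K
    rwa [mul_assoc k, inv_mul_cancel_left, inv_mul_cancel_right]
  · show k * (k⁻¹ * u * k) * k⁻¹ = u
    group

theorem card_conj (k : Spor.J4) : Nat.card ↥(P3.map (MulAut.conj k).toMonoidHom) = 27 := by
  rw [card_map_of_injective (MulAut.conj k).injective, P3_card]

theorem norm_of_map_le {K : Subgroup Spor.J4} {k : Spor.J4} (h : K.map (MulAut.conj k).toMonoidHom = K) :
    k ∈ normalizer (K : Set Spor.J4) :=
  conj_mem_closure (closure_eq K).symm fun a ha => h.le ⟨a, ha, rfl⟩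

/-- A nontrivial power of an element of order 3 generates it again. -/
theorem cube_pick {a : Spor.J4} (ha : a ^ 3 = 1) {j : ℕ} (hj : a ^ j ≠ 1) : a = (a ^ j) ^ j := by
  have hj0 : j % 3 ≠ 0 := fun h => hj (by rw [pow_eq_pow_mod j ha, h, pow_zero])
  have h3 : j % 3 = 1 ∨ j % 3 = 2 := by omega
  have e : j * j % 3 = 1 := by
    rcases h3 with h | h <;> rw [Nat.mul_mod, h]
  rw [← pow_mul, pow_eq_pow_mod (j * j) ha, e, pow_one]

theorem y_pick {i : ℕ} (hi : i = 1 ∨ i = 2) : g 0 = (g 0 ^ i) ^ i := by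
  rcases hi with rfl | rfl
  · rw [pow_one, pow_one]
  · rw [← pow_mul, pow_eq_pow_mod (2 * 2) y_cube]
    exact (pow_one _).symm

variable (E : Env)
include E

theorem three_part : 3 ^ (Nat.card Spor.J4).factorization 3 = 27 :=
  (E.part (n := 3) (by norm_num) (by decide +kernel) (by decide +kernel)).trans (by norm_num)

theorem norm_three_le {a : Spor.J4} (ha : a ^ 3 = 1) (ha1 : a ≠ 1) :
    Nat.card ↥(normalizer (zpowers a : Set Spor.J4)) ≤ 5322240 := by
  haveI := finite_J4
  haveI : Fact (Nat.Prime 3) := ⟨by norm_num⟩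
  have h := orderOf_eq_prime ha ha1
  obtain ⟨z₀, -, -, -, h3, -⟩ := E.facts.inv
  exact (card_normalizer_zpowers_le h).trans (Nat.mul_le_mul (le_refl 2) (h3 a h).1)

variable {H : Subgroup Spor.J4} (hH : ∀ k < 8, g k ∈ H) (hne : H ≠ ⊤)
include hH hne

theorem seven_inf : Nat.card ↥(H ⊓ normalizer (zpowers (g 6) : Set Spor.J4)) = 21 := by
  haveI := finite_J4
  haveI : Fact (Nat.Prime 7) := ⟨by norm_num⟩
  have ho : orderOf (g 6) = 7 := orderOf_eq_prime known.1 known.2.1
  have hN : Nat.card ↥(normalizer (zpowers (g 6) : Set Spor.J4)) = 2520 :=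
    E.norm 7 1 2520 (by simp) _ (by rw [Nat.card_zpowers, ho, pow_one])
  obtain ⟨a1, a2, a3⟩ := seven_count
  have e6 : P.ev [6] = g 6 := P.ev_single 6
  have hA := seven.forced P (nM := 8) (by rw [pm_length]; exact seven_shape) seven_keys
    (by rw [pm_length]; exact seven_crt) seven_low
    (inside_of P seven (e6 ▸ P.normalizes sevenExp_ok) seven_in) (by rw [a1, a2, hN]) (H := H) hH (E.not_big hne)
  rw [hA.1, a1, a3]

theorem no_mix : NoMix H := by
  haveI := finite_J4
  haveI : Fact (Nat.Prime 7) := ⟨by norm_num⟩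
  intro a ha q hq hqa h7
  have hd : q * 7 ∣ orderOf a := by
    refine Nat.Coprime.mul_dvd_of_dvd_of_dvd ?_ hqa h7
    simp only [List.mem_cons, List.not_mem_nil, or_false] at hq
    rcases hq with rfl | rfl | rfl <;> decide
  set b := a ^ (orderOf a / (q * 7))
  have hb : orderOf b = q * 7 := orderOf_pow_orderOf_div (orderOf_pos a).ne' hd
  have hq0 : q ≠ 0 := by rintro rfl; simp at hq
  have hc : orderOf (b ^ q) = 7 := by
    rw [orderOf_pow_of_dvd hq0 (hb ▸ dvd_mul_right q 7), hb, Nat.mul_div_cancel_left 7 (Nat.pos_of_ne_zero hq0)]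
  have ho : orderOf (g 6) = 7 := orderOf_eq_prime known.1 known.2.1
  have hbH : b ∈ H := pow_mem ha _
  obtain ⟨k, hk, hkc⟩ := conj_into (p := 7) (C := H) (A := zpowers (b ^ q)) (B := zpowers (g 6))
    (zpowers_le.mpr (pow_mem hbH q)) (IsPGroup.of_card (n := 1) (by rw [Nat.card_zpowers, hc, pow_one]))
    (zpowers_le.mpr (hH 6 (by norm_num)))
    (by rw [Nat.card_zpowers, ho, E.part (n := 1) (by norm_num) (by decide +kernel) (by decide +kernel), pow_one])
  set b' := k * b * k⁻¹
  have hb' : orderOf b' = q * 7 :=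
    (orderOf_injective (MulAut.conj k).toMonoidHom (MulAut.conj k).injective b).trans hb
  have hin : b' ^ q ∈ zpowers (g 6) := by
    rw [conj_pow]; exact hkc _ (mem_zpowers _)
  have heq : zpowers (b' ^ q) = zpowers (g 6) := eq_of_le_of_card_ge (zpowers_le.mpr hin) (by
    rw [Nat.card_zpowers, Nat.card_zpowers, ho, orderOf_pow_of_dvd hq0 (hb' ▸ dvd_mul_right q 7), hb',
      Nat.mul_div_cancel_left 7 (Nat.pos_of_ne_zero hq0)])
  have hN : b' ∈ normalizer (zpowers (g 6) : Set Spor.J4) := by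
    rw [← heq]
    refine normal_of_conj 1 ?_
    rw [pow_one, ← pow_succ', ← pow_succ]
  have h21 := (H ⊓ normalizer (zpowers (g 6) : Set Spor.J4)).orderOf_dvd_natCard
    (show b' ∈ H ⊓ normalizer (zpowers (g 6) : Set Spor.J4) from ⟨H.mul_mem (H.mul_mem hk hbH) (H.inv_mem hk), hN⟩)
  rw [seven_inf E hH hne, hb'] at h21
  simp only [List.mem_cons, List.not_mem_nil, or_false] at hq
  rcases hq with rfl | rfl | rfl <;> norm_num at h21

theorem alpha_norm {a : Spor.J4} (ha : a ∈ normalizer (zpowers (g 4) : Set Spor.J4))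
    (hu : ∀ u ∈ P3, a⁻¹ * u * a ∈ H) :
    ∃ f ∈ alpha.fix, ∃ l : ℕ, a = P.ev f * P.ev (alpha.lef.getD l []) := by
  haveI := finite_J4
  obtain ⟨h1, h2, h3, h4⟩ := alpha_count
  have hNle : Nat.card ↥(normalizer (zpowers (g 4) : Set Spor.J4)) ≤ alpha.fix.length * alpha.ents.length := by
    rw [h1, h2]
    exact (norm_three_le E x_cube known.2.2.1).trans (le_of_eq (by norm_num))
  obtain ⟨-, hcov⟩ := alpha.cover P (by rw [pm_length]; exact alpha_shape) alpha_keys
    (inside_of P alpha x_normal alpha_in) hNle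
  obtain ⟨p, rfl⟩ := hcov a ha
  have hs := alpha_shape
  simp only [Plan.shapeOK, Bool.and_eq_true, List.all_eq_true, beq_iff_eq, Nat.blt_eq] at hs
  obtain ⟨hf, hl, hr⟩ := alpha_fix
  simp only [List.all_eq_true, List.elem_iff] at hf hl hr
  have getD_sub : ∀ {L : List (List ℕ)} {s : List ℕ}, (∀ w ∈ L, ∀ k ∈ w, k ∈ s) → ∀ i, ∀ k ∈ L.getD i [], k ∈ s := by
    intro L s hL i k hk
    by_cases hi : i < L.length
    · rw [List.getD_eq_getElem _ _ hi] at hk; exact hL _ (List.getElem_mem hi) k hk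
    · rw [List.getD_eq_default _ _ (Nat.le_of_not_lt hi)] at hk; simp at hk
  set f := alpha.fix.get p.1
  set e := alpha.ents.get p.2
  have hf12 : ∀ k ∈ f, k ∈ [0, 1, 2, 12] := fun k hk => by
    have := hf f (List.get_mem _ _) k hk
    simp only [List.mem_cons, List.not_mem_nil, or_false] at this ⊢
    omega
  have hA : P.ev f * P.ev (alpha.lef.getD e.1 []) ∈ normalizer (P3 : Set Spor.J4) :=
    mul_mem (P.ev_mem fun k hk => P3_normal k (hf12 k hk)) (P.ev_mem fun k hk => P3_normal k (getD_sub hl _ k hk))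
  by_cases h0 : e.2.1 = 0
  · refine ⟨f, List.get_mem _ _, e.1, ?_⟩
    have hz : e.2.2 = 0 := by
      have h := alpha_zero.1
      simp only [List.all_eq_true, beq_iff_eq] at h
      exact h e (List.mem_filter.mpr ⟨List.get_mem _ _, by simp [h0]⟩)
    rw [Plan.elem, Plan.entW, show alpha.ents.get p.2 = e from rfl, h0, hz, hs.1.1.2, alpha_zero.2.1,
      List.append_nil, List.append_nil]
  · exfalso
    refine conj_false (no_mix E hH hne) (fun k hk => hH k (by omega)) alpha_crt alpha_cover.1 h0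
      (h3 ▸ hs.2 e (List.get_mem _ _)) fun k hk => ?_
    have hk3 : g k ∈ P3 := by
      simp only [List.mem_cons, List.not_mem_nil, or_false] at hk
      rcases hk with rfl | rfl
      exacts [g0_mem, g1_mem]
    have hrig : P.ev (alpha.rig.getD e.2.2 []) ∈ H := P.ev_mem fun j hj => hH j (by
      have := getD_sub hr _ j hj
      simp only [List.mem_cons, List.not_mem_nil, or_false] at this
      omega)
    have h := hu _ ((mem_normalizer_iff.mp hA (g k)).mp hk3)
    rw [Plan.elem, Plan.entW, P.ev_append, P.ev_append] at h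
    simp only [f, e] at h hrig ⊢
    have h' := mul_mem (mul_mem hrig h) (inv_mem hrig)
    convert h' using 1
    group

theorem norm_x {a : Spor.J4} (ha : a ∈ H) (hn : a ∈ normalizer (zpowers (g 4) : Set Spor.J4)) :
    ∃ f ∈ alpha.fix, a = P.ev f := by
  obtain ⟨f, hf, l, rfl⟩ := alpha_norm E hH hne hn fun u hu =>
    mul_mem (mul_mem (inv_mem ha) ((closure_le _).mpr (by
      rintro b (rfl | rfl)
      exacts [hH 0 (by norm_num), hH 1 (by norm_num)]) hu)) ha
  refine ⟨f, hf, ?_⟩
  have hfH : P.ev f ∈ H := P.ev_mem fun k hk => hH k (by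
    have h := alpha_fix.1
    simp only [List.all_eq_true, List.elem_iff, List.mem_cons, List.not_mem_nil, or_false] at h
    have := h f hf k hk
    omega)
  have hlH := (mul_mem_cancel_left hfH).mp ha
  rw [tail_zero (no_mix E hH hne) (fun k hk => hH k (by omega)) hlH, P.ev_nil, mul_one]

omit E hH hne in
theorem norm_P3_le : normalizer (P3 : Set Spor.J4) ≤ normalizer (zpowers (g 4) : Set Spor.J4) := by
  intro a ha
  rcases P3_cases ((mem_normalizer_iff.mp ha _).mp g4_mem) with ⟨j, hj⟩ | ⟨m, i, hi, -, hm, -, e⟩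
  · have : a⁻¹ ∈ normalizer (zpowers (g 4) : Set Spor.J4) := normal_of_conj j (by rw [← hj]; group)
    simpa using inv_mem this
  · exfalso
    apply u_ne
    have hc : Commute (g 0 ^ i) (g 1) := by
      have h1 := mem_normalizer_iff.mp (inv_mem (mul_mem hm ha)) (g 1) |>.mp g1_mem
      have h2 := (x_comm h1).map (MulAut.conj (m * a)).toMonoidHom
      simp only [MulEquiv.coe_toMonoidHom, MulAut.conj_apply] at h2
      convert h2 using 1
      · rw [← e]; group
      · group
    have := hc.pow_left i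
    rw [← y_pick hi] at this
    exact this.eq

theorem inf_three : Nat.card ↥(H ⊓ normalizer (P3 : Set Spor.J4)) = 216 := by
  haveI := finite_J4
  have hfx : ∀ w ∈ alpha.fix, ∀ k ∈ w, k = 0 ∨ k = 1 ∨ k = 2 := fun w hw k hk => by
    have h := alpha_fix.1
    simp only [List.all_eq_true, List.elem_iff, List.mem_cons, List.not_mem_nil, or_false] at h
    exact h w hw k hk
  let Φ : Fin alpha.fix.length → ↥(H ⊓ normalizer (P3 : Set Spor.J4)) := fun i =>
    ⟨P.ev (alpha.fix.get i), P.ev_mem fun k hk => hH k (by have := hfx _ (List.get_mem _ _) k hk; omega),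
      P.ev_mem fun k hk => P3_normal k (by rcases hfx _ (List.get_mem _ _) k hk with rfl | rfl | rfl <;> simp)⟩
  have hb : Function.Bijective Φ := by
    refine ⟨fun i j h => ?_, fun a => ?_⟩
    · have hne0 : 0 < alpha.ents.length := by rw [alpha_count.2.1]; norm_num
      have h' := alpha.elem_injective P (a₁ := (i, ⟨0, hne0⟩)) (a₂ := (j, ⟨0, hne0⟩))
        (by rw [pm_length]; exact alpha_shape) alpha_keys
        (show P.ev (alpha.fix.get i) * _ = P.ev (alpha.fix.get j) * _ by
          rw [show P.ev (alpha.fix.get i) = P.ev (alpha.fix.get j) from congrArg Subtype.val h])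
      exact (Prod.ext_iff.mp h').1
    · obtain ⟨f, hf, e⟩ := norm_x E hH hne a.2.1 (norm_P3_le a.2.2)
      obtain ⟨i, rfl⟩ := List.mem_iff_get.mp hf
      exact ⟨i, Subtype.ext e.symm⟩
  rw [← Nat.card_eq_of_bijective Φ hb, Nat.card_fin, alpha_count.1]

theorem cent_x {R : Subgroup Spor.J4} (hR : R ≤ H) (hc : Nat.card R = 27) (hx : ∀ u ∈ R, Commute (g 4) u) :
    R = P3 := by
  haveI := finite_J4
  haveI : Fact (Nat.Prime 3) := ⟨by norm_num⟩
  obtain ⟨k, hk, hku⟩ := conj_into (p := 3) (C := centralizer ({g 4} : Set Spor.J4)) (A := P3) (B := R)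
    (fun u hu => mem_centralizer_singleton_iff.mpr (x_comm hu).eq.symm) (IsPGroup.of_card (n := 3) P3_card)
    (fun u hu => mem_centralizer_singleton_iff.mpr (hx u hu).eq.symm) (hc.trans (three_part E).symm)
  have hkN : k⁻¹ ∈ normalizer (zpowers (g 4) : Set Spor.J4) :=
    inv_mem (normal_of_conj 1 (by rw [pow_one]; exact mem_centralizer_singleton_iff.mp hk))
  obtain ⟨f, hf, l, e⟩ := alpha_norm E hH hne hkN fun u hu => by rw [inv_inv]; exact hR (hku u hu)
  have hkP : k ∈ normalizer (P3 : Set Spor.J4) := by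
    rw [← inv_mem_iff, e]
    refine mul_mem (P.ev_mem fun j hj => P3_normal j ?_) (P.ev_mem fun j hj => P3_normal j ?_)
    · have h := alpha_fix.1
      simp only [List.all_eq_true, List.elem_iff] at h
      have := h f hf j hj
      simp only [List.mem_cons, List.not_mem_nil, or_false] at this ⊢
      omega
    · have h := alpha_fix.2.1
      simp only [List.all_eq_true, List.elem_iff] at h
      by_cases hl : l < alpha.lef.length
      · rw [List.getD_eq_getElem _ _ hl] at hj; exact h _ (List.getElem_mem hl) j hj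
      · rw [List.getD_eq_default _ _ (Nat.le_of_not_lt hl)] at hj; simp at hj
  refine (eq_of_le_of_card_ge (fun v hv => ?_) (hc.trans P3_card.symm).le).symm
  have h1 : k⁻¹ * v * k ∈ P3 := by
    have := (mem_normalizer_iff.mp (inv_mem hkP) v).mp hv
    rwa [inv_inv] at this
  have h2 := hku _ h1
  convert h2 using 1
  group

theorem beta_norm {a : Spor.J4} (ha : a ∈ normalizer (zpowers (g 0) : Set Spor.J4))
    (hd : ∀ d ∈ D9, a⁻¹ * d * a ∈ H) : a ∈ normalizer (D9 : Set Spor.J4) := by
  haveI := finite_J4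
  obtain ⟨h1, h2, h3⟩ := beta_count
  have hNle : Nat.card ↥(normalizer (zpowers (g 0) : Set Spor.J4)) ≤ beta.fix.length * beta.ents.length := by
    rw [h1, h2]
    exact (norm_three_le E y_cube y_ne).trans (le_of_eq (by norm_num))
  obtain ⟨-, hcov⟩ := beta.cover P (by rw [pm_length]; exact beta_shape) beta_keys
    (inside_of P beta y_normal beta_in) hNle
  obtain ⟨p, rfl⟩ := hcov a ha
  have hs := beta_shape
  simp only [Plan.shapeOK, Bool.and_eq_true, List.all_eq_true, beq_iff_eq, Nat.blt_eq] at hs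
  obtain ⟨hf, hr, hl⟩ := beta_fix
  simp only [List.all_eq_true, List.elem_iff, List.mem_cons, List.not_mem_nil, or_false] at hf hr
  have hl0 : ∀ l, beta.lef.getD l [] = [] := fun l => by
    rw [hl]; cases l <;> rfl
  set f := beta.fix.get p.1
  set e := beta.ents.get p.2
  have hfN : P.ev f ∈ normalizer (D9 : Set Spor.J4) := P.ev_mem fun k hk => D9_normal k (by
    rcases hf f (List.get_mem _ _) k hk with rfl | rfl | rfl | rfl | rfl <;> simp)
  have hrk : ∀ k ∈ beta.rig.getD e.2.2 [], k = 0 ∨ k = 4 ∨ k = 5 := fun k hk => by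
    by_cases hi : e.2.2 < beta.rig.length
    · rw [List.getD_eq_getElem _ _ hi] at hk; exact hr _ (List.getElem_mem hi) k hk
    · rw [List.getD_eq_default _ _ (Nat.le_of_not_lt hi)] at hk; simp at hk
  have he : beta.elem P p = P.ev f * (P.ev (beta.reps.getD e.2.1 []) * P.ev (beta.rig.getD e.2.2 [])) := by
    rw [Plan.elem, Plan.entW, hl0, List.nil_append, P.ev_append]
  by_cases h0 : e.2.1 = 0
  · rw [he, h0, hs.1.1.2, P.ev_nil, one_mul]
    exact mul_mem hfN (P.ev_mem fun k hk => D9_normal k (by rcases hrk k hk with rfl | rfl | rfl <;> simp))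
  · exfalso
    refine conj_false (no_mix E hH hne) (fun k hk => hH k (by omega)) beta_crt beta_cover h0
      (h3 ▸ hs.2 e (List.get_mem _ _)) fun k hk => ?_
    rw [List.mem_singleton] at hk
    subst hk
    have hrig : P.ev (beta.rig.getD e.2.2 []) ∈ H := P.ev_mem fun j hj => hH j (by have := hrk j hj; omega)
    have h := hd _ ((mem_normalizer_iff.mp hfN (g 4)).mp g4_D9)
    rw [he] at h
    have h' := mul_mem (mul_mem hrig h) (inv_mem hrig)
    convert h' using 1
    group

/-- The elements of order 3 of the subgroup commuting with the non-central element lie in the group of order 9. -/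
theorem cube_D {w : Spor.J4} (hw : w ∈ H) (h3 : w ^ 3 = 1) (hc : Commute (g 0) w) : w ∈ D9 := by
  haveI := finite_J4
  haveI : Fact (Nat.Prime 3) := ⟨by norm_num⟩
  obtain ⟨-, -, -, -, hh, he⟩ := known
  have hx : (g 17)⁻¹ * g 4 * g 17 = g 0 ^ hExp := by rw [mul_assoc, hh, inv_mul_cancel_left]
  have hB : P3.map (MulAut.conj (g 17)⁻¹).toMonoidHom ≤ centralizer ({g 0} : Set Spor.J4) := by
    rintro _ ⟨v, hv, rfl⟩
    rw [mem_centralizer_singleton_iff]
    have h := ((x_comm hv).map (MulAut.conj (g 17)⁻¹).toMonoidHom)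
    simp only [MulEquiv.coe_toMonoidHom, MulAut.conj_apply, inv_inv, hx] at h
    have := h.pow_left hExp
    rw [← y_pick he] at this
    simpa only [MulEquiv.coe_toMonoidHom, MulAut.conj_apply, inv_inv] using this.eq.symm
  obtain ⟨c, hcC, hcu⟩ := conj_into (p := 3) (A := zpowers w) (B := P3.map (MulAut.conj (g 17)⁻¹).toMonoidHom)
    (zpowers_le.mpr (mem_centralizer_singleton_iff.mpr hc.eq.symm))
    (fun u => ⟨1, by
      obtain ⟨i, hi⟩ := mem_zpowers_iff.mp u.2
      apply Subtype.ext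
      show (u : Spor.J4) ^ (3 ^ 1) = 1
      rw [← hi, ← zpow_natCast, ← zpow_mul, mul_comm, zpow_mul, zpow_natCast, pow_one, h3, one_zpow]⟩)
    hB ((card_conj _).trans (three_part E).symm)
  obtain ⟨v, hv, hve⟩ := hcu w (mem_zpowers w)
  simp only [MulEquiv.coe_toMonoidHom, MulAut.conj_apply, inv_inv] at hve
  have hcy : Commute (g 0) c := (mem_centralizer_singleton_iff.mp hcC).symm
  set k := g 17 * c with hk
  have hwk : w = k⁻¹ * v * k := by
    rw [hk, show (g 17 * c)⁻¹ * v * (g 17 * c) = c⁻¹ * ((g 17)⁻¹ * v * g 17) * c by group, hve]; group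
  have hxk : k⁻¹ * g 4 * k = g 0 ^ hExp := by
    rw [hk, show (g 17 * c)⁻¹ * g 4 * (g 17 * c) = c⁻¹ * ((g 17)⁻¹ * g 4 * g 17) * c by group, hx, mul_assoc,
      (hcy.pow_left hExp).eq, inv_mul_cancel_left]
  rcases P3_cases hv with ⟨j, rfl⟩ | ⟨m, i, hi, -, -, hmx, e⟩
  · rw [hwk, show k⁻¹ * g 4 ^ j * k = (k⁻¹ * g 4 * k) ^ j by
      simpa only [inv_inv] using (conj_pow (a := k⁻¹) (b := g 4) (i := j)).symm, hxk]
    exact pow_mem (pow_mem g0_D9 _) _
  · let T : Subgroup Spor.J4 := H.comap (MulAut.conj (m * k)⁻¹).toMonoidHom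
    have hT : ∀ d, d ∈ T ↔ (m * k)⁻¹ * d * (m * k) ∈ H := fun d => by
      simp only [T, mem_comap, MulEquiv.coe_toMonoidHom, MulAut.conj_apply, inv_inv]
    have h0T : g 0 ∈ T := by
      have : g 0 ^ i ∈ T := (hT _).mpr (by
        rw [← e]; convert hw using 1; rw [hwk]; group)
      rw [y_pick hi]; exact pow_mem this i
    have h4T : g 4 ∈ T := by
      have h1 : m * g 4 * m⁻¹ ∈ T := (hT _).mpr (by
        rw [show (m * k)⁻¹ * (m * g 4 * m⁻¹) * (m * k) = k⁻¹ * g 4 * k by group, hxk]
        exact pow_mem (hH 0 (by norm_num)) _)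
      obtain ⟨a, ha⟩ := mem_zpowers_iff.mp ((mem_normalizer_iff.mp (inv_mem hmx) (g 4)).mp (mem_zpowers _))
      rw [show g 4 = (m * g 4 * m⁻¹) ^ a by rw [conj_zpow, ha]; group]
      exact zpow_mem h1 a
    have hDT : D9 ≤ T := (closure_le _).mpr (by
      rintro d (rfl | rfl)
      exacts [h4T, h0T])
    set n := (g 17)⁻¹ * m * k with hn
    have hnN : n ∈ normalizer (zpowers (g 0) : Set Spor.J4) := by
      rw [hn, hk, show (g 17)⁻¹ * m * (g 17 * c) = ((g 17)⁻¹ * m * g 17) * c by group]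
      refine mul_mem ?_ (normal_of_conj 1 (by rw [pow_one]; exact hcy.eq.symm))
      have hz : (zpowers (g 4)).map (MulAut.conj (g 17)⁻¹).toMonoidHom = zpowers (g 0) := by
        rw [MonoidHom.map_zpowers]
        show zpowers ((g 17)⁻¹ * g 4 * ((g 17)⁻¹)⁻¹) = _
        rw [inv_inv, hx]
        refine le_antisymm (zpowers_le.mpr (pow_mem (mem_zpowers (g 0)) hExp))
          ((zpowers_le (H := zpowers (g 0 ^ hExp))).mpr ?_)
        have h1 := pow_mem (mem_zpowers (g 0 ^ hExp)) hExp
        rwa [← y_pick he] at h1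
      rw [← hz, ← map_equiv_normalizer_eq]
      refine mem_map.mpr ⟨m, hmx, ?_⟩
      show (g 17)⁻¹ * m * ((g 17)⁻¹)⁻¹ = _
      rw [inv_inv]
    have h17 := D9_normal 17 (by simp)
    have hnD := beta_norm E hH hne hnN fun d hd => by
      have h := (hT _).mp (hDT ((mem_normalizer_iff.mp h17 d).mp hd))
      convert h using 1
      rw [hn]; group
    have h2 := (mem_normalizer_iff.mp (inv_mem hnD) _).mp
      ((mem_normalizer_iff.mp (inv_mem h17) _).mp (pow_mem g0_D9 i))
    convert h2 using 1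
    rw [hn, hwk, ← e]; group

theorem no_cent_y {R : Subgroup Spor.J4} (hR : R ≤ H) (hc : Nat.card R = 27) (hy : ∀ u ∈ R, Commute (g 0) u) :
    False := by
  haveI := finite_J4
  haveI : Fact (Nat.Prime 3) := ⟨by norm_num⟩
  obtain ⟨k, -, hku⟩ := conj_into (p := 3) (C := ⊤) (A := R) (B := P3) le_top
    (IsPGroup.of_card (n := 3) hc) le_top (P3_card.trans (three_part E).symm)
  have hle : R ≤ D9 := fun u hu => cube_D E hH hne (hR hu) (by
    have h := P3_cube (hku u hu)
    rw [conj_pow] at h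
    simpa using h) (hy u hu)
  have he : R = P3 := eq_of_le_of_card_ge (hle.trans D9_le) (P3_card.trans hc.symm).le
  exact u_ne (hy (g 1) (he ▸ g1_mem)).eq

/-- An element of the subgroup carrying the central element into the group of order 27 normalises it. -/
theorem fusion {k : Spor.J4} (hk : k ∈ H) (hv : k * g 4 * k⁻¹ ∈ P3) : k ∈ normalizer (P3 : Set Spor.J4) := by
  haveI := finite_J4
  have hP : P3 ≤ H := (closure_le _).mpr (by
    rintro b (rfl | rfl)
    exacts [hH 0 (by norm_num), hH 1 (by norm_num)])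
  rcases P3_cases hv with ⟨j, hj⟩ | ⟨m, i, hi, hmS, -, -, e⟩
  · refine norm_of_map_le (cent_x E hH hne ?_ (card_conj k) ?_)
    · rintro _ ⟨v, hv, rfl⟩
      exact mul_mem (mul_mem hk (hP hv)) (inv_mem hk)
    · rintro _ ⟨v, hv, rfl⟩
      have h := (x_comm hv).map (MulAut.conj k).toMonoidHom
      simp only [MulEquiv.coe_toMonoidHom, MulAut.conj_apply] at h ⊢
      rw [hj] at h
      have hne1 : g 4 ^ j ≠ 1 := fun h1 => known.2.2.1 (conj_eq_one_iff.mp (hj.trans h1))
      have := h.pow_left j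
      rwa [← cube_pick x_cube hne1] at this
  · exfalso
    have hmk : m * k ∈ H := mul_mem ((closure_le _).mpr (by
      rintro b (rfl | rfl | rfl | rfl)
      exacts [hH 0 (by norm_num), hH 1 (by norm_num), hH 2 (by norm_num), hH 3 (by norm_num)]) hmS) hk
    refine no_cent_y E hH hne (R := P3.map (MulAut.conj (m * k)).toMonoidHom) ?_ (card_conj _) ?_
    · rintro _ ⟨v, hv, rfl⟩
      exact mul_mem (mul_mem hmk (hP hv)) (inv_mem hmk)
    · rintro _ ⟨v, hv, rfl⟩
      have h := (x_comm hv).map (MulAut.conj (m * k)).toMonoidHom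
      simp only [MulEquiv.coe_toMonoidHom, MulAut.conj_apply] at h ⊢
      rw [show m * k * g 4 * (m * k)⁻¹ = g 0 ^ i by rw [← e]; group] at h
      have := h.pow_left i
      rwa [← y_pick hi] at this

end Cfsg.Lib.J4NonLocal.UThree
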