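import Cfsg.Agent.J4NonLocal.UThree.Local

/-!
The subgroup U₃(3) of the fourth Janko group is maximal.
-/

set_option autoImplicit false
set_option maxRecDepth 20000
set_option synthInstance.maxSize 4000
set_option linter.style.haveILetI false
set_option Elab.async false

namespace Cfsg.Lib.J4NonLocal.UThree

open Cfsg Cfsg.Lib.J4Cert Cfsg.Lib.J4Maximal Subgroup

attribute [local irreducible] mB tabs4 vt pm ptabs P alpha beta seven

/-- An action of a group of prime power order in which every stabiliser off one fixed point is trivial. -/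
theorem card_mod_of_free {Q X : Type*} [Group Q] [Finite Q] [MulAction Q X] [Finite X] (x₀ : X)
    (h0 : ∀ q : Q, q • x₀ = x₀) (hfree : ∀ x : X, x ≠ x₀ → ∀ q : Q, q • x = x → q = 1) :
    ∃ n, Nat.card X = 1 + Nat.card Q * n := by
  classical
  haveI := Fintype.ofFinite X
  haveI : Fintype (Quotient (MulAction.orbitRel Q X)) := Fintype.ofFinite _
  set ω₀ : Quotient (MulAction.orbitRel Q X) := Quotient.mk'' x₀
  have hout : ω₀.out = x₀ := by
    obtain ⟨q, hq⟩ : ω₀.out ∈ MulAction.orbit Q x₀ :=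
      MulAction.orbitRel_apply.mp (Quotient.exact (Quotient.out_eq ω₀))
    exact hq.symm.trans (h0 q)
  have h1 : Nat.card (MulAction.orbit Q ω₀.out) = 1 := by
    rw [hout]
    haveI : Subsingleton (MulAction.orbit Q x₀) := ⟨fun a b => Subtype.ext (by
      obtain ⟨q, hq⟩ := a.2
      obtain ⟨r, hr⟩ := b.2
      exact (hq.symm.trans (h0 q)).trans ((h0 r).symm.trans hr))⟩
    exact Nat.card_of_subsingleton (⟨x₀, MulAction.mem_orbit_self x₀⟩ : MulAction.orbit Q x₀)
  have h2 : ∀ ω ∈ Finset.univ.erase ω₀, Nat.card (MulAction.orbit Q ω.out) = Nat.card Q := by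
    intro ω hω
    have hne : ω.out ≠ x₀ := fun e => (Finset.mem_erase.mp hω).1 (by rw [← Quotient.out_eq ω, e])
    have hs : MulAction.stabilizer Q ω.out = ⊥ := eq_bot_iff.mpr fun q hq => Subgroup.mem_bot.mpr (hfree _ hne q hq)
    rw [Nat.card_coe_set_eq, ← MulAction.index_stabilizer, hs, index_bot]
  refine ⟨(Finset.univ.erase ω₀).card, ?_⟩
  rw [Nat.card_congr (MulAction.selfEquivSigmaOrbits Q X), Nat.card_sigma,
    ← Finset.add_sum_erase _ _ (Finset.mem_univ ω₀), h1, Finset.sum_congr rfl h2, Finset.sum_const, smul_eq_mul,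
    mul_comm]

variable (E : Env)
include E

variable {M : Subgroup Spor.J4} (hM : ∀ k < 8, g k ∈ M) (hne : M ≠ ⊤)
include hM hne

/-- An element conjugating a nontrivial element of the group of order 27 into it normalises it. -/
theorem norm_of_meet {k q : Spor.J4} (hk : k ∈ M) (hq : q ∈ P3) (hq1 : q ≠ 1) (hkq : k⁻¹ * q * k ∈ P3) :
    k ∈ normalizer (P3 : Set Spor.J4) := by
  rcases P3_cases hq with ⟨j, rfl⟩ | ⟨m, i, hi, hmS, hmN, -, e⟩
  · rw [← inv_mem_iff]
    refine fusion E hM hne (inv_mem hk) ?_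
    rw [inv_inv, show k⁻¹ * g 4 * k = (k⁻¹ * g 4 ^ j * k) ^ j by
      conv_lhs => rw [cube_pick x_cube hq1]
      simpa only [inv_inv] using (conj_pow (a := k⁻¹) (b := g 4 ^ j) (i := j)).symm]
    exact pow_mem hkq j
  · have hmk : m * k ∈ M := mul_mem ((closure_le _).mpr (by
      rintro b (rfl | rfl | rfl | rfl)
      exacts [hM 0 (by norm_num), hM 1 (by norm_num), hM 2 (by norm_num), hM 3 (by norm_num)]) hmS) hk
    set w := m * k * g 4 * (m * k)⁻¹ with hw
    have hx := (x_comm hkq).map (MulAut.conj (m * k)).toMonoidHom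
    simp only [MulEquiv.coe_toMonoidHom, MulAut.conj_apply] at hx
    rw [show m * k * (k⁻¹ * q * k) * (m * k)⁻¹ = g 0 ^ i by rw [← e]; group, ← hw] at hx
    have hc : Commute (g 0) w := by
      have := hx.symm.pow_left i
      rwa [← y_pick hi] at this
    have hwD := cube_D E hM hne (mul_mem (mul_mem hmk (hM 4 (by norm_num))) (inv_mem hmk))
      (by rw [conj_pow, x_cube, mul_one, mul_inv_cancel]) hc
    exact (mul_mem_cancel_left hmN).mp (fusion E hM hne hmk (D9_le hwD))

/-- The number of Sylow 3-subgroups is 1 modulo 27. -/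
theorem three_count [Fact (Nat.Prime 3)] : Nat.card (Sylow 3 M) % 27 = 1 := by
  haveI := finite_J4
  obtain ⟨U, hU⟩ : ∃ U : Sylow 3 Spor.J4, (U : Subgroup Spor.J4) = P3 :=
    ⟨Sylow.ofCard _ (P3_card.trans (three_part E).symm), Sylow.coe_ofCard _ _⟩
  have hPM : P3 ≤ M := (closure_le _).mpr (by
    rintro b (rfl | rfl)
    exacts [hM 0 (by norm_num), hM 1 (by norm_num)])
  set R₀ : Sylow 3 M := U.subtype (hU.trans_le hPM) with hR₀
  have hmem : ∀ q : M, q ∈ (R₀ : Subgroup M) ↔ (q : Spor.J4) ∈ P3 := fun q => by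
    rw [hR₀, Sylow.coe_subtype, mem_subgroupOf, hU]
  have hcQ : Nat.card (R₀ : Subgroup M) = 27 := by
    rw [hR₀, Sylow.coe_subtype, Nat.card_congr (subgroupOfEquivOfLe (hU.trans_le hPM)).toEquiv, hU, P3_card]
  obtain ⟨n, hn⟩ := card_mod_of_free (Q := ↥(R₀ : Subgroup M)) (X := Sylow 3 M) R₀
    (fun q => Sylow.smul_eq_iff_mem_normalizer.mpr (le_normalizer q.2)) (fun R hR q hq => by
      by_contra hq1
      have hqR : (q : M) ∈ (R : Subgroup M) := by
        have h : (q : M) ∈ (R₀ : Subgroup M) ⊓ normalizer ((R : Subgroup M) : Set M) :=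
          ⟨q.2, Sylow.smul_eq_iff_mem_normalizer.mp hq⟩
        exact ((IsPGroup.inf_normalizer_sylow R₀.isPGroup' R).le h).2
      obtain ⟨k, rfl⟩ := MulAction.exists_smul_eq M R₀ R
      have h1 : k⁻¹ * (q : M) * k ∈ (R₀ : Subgroup M) := by
        rw [Sylow.coe_subgroup_smul, Subgroup.mem_pointwise_smul_iff_inv_smul_mem] at hqR
        rw [← map_inv, MulAut.smul_def, MulAut.conj_apply, inv_inv] at hqR
        exact hqR
      have hkN := norm_of_meet E hM hne k.2 ((hmem _).mp q.2)
        (fun h => hq1 (Subtype.ext (Subtype.ext h))) ((hmem _).mp h1)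
      refine hR (Sylow.smul_eq_iff_mem_normalizer.mpr ?_)
      show k ∈ normalizer ((R₀ : Subgroup M) : Set M)
      rw [mem_normalizer_iff]
      intro u
      rw [hmem, hmem]
      exact mem_normalizer_iff.mp hkN u)
  rw [hn, hcQ, Nat.add_mul_mod_self_left]

/-- A Sylow 23-subgroup is not its own normaliser. -/
theorem bad_twentyThree [Fact (Nat.Prime 23)] (U : Sylow 23 Spor.J4) (hU : (U : Subgroup Spor.J4) ≤ M) :
    Nat.card ↥(M ⊓ normalizer ((U : Subgroup Spor.J4) : Set Spor.J4)) ≠ 23 := by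
  haveI := finite_J4
  haveI : Fact (Nat.Prime 7) := ⟨by norm_num⟩
  intro h23
  have hUc : Nat.card (U : Subgroup Spor.J4) = 23 :=
    (E.sylow_card (n := 1) (by decide +kernel) (by decide +kernel) U).trans (pow_one _)
  set U' : Sylow 23 M := U.subtype hU with hU'
  have hU'c : Nat.card (U' : Subgroup M) = 23 := by
    rw [hU', Sylow.coe_subtype, Nat.card_congr (subgroupOfEquivOfLe hU).toEquiv, hUc]
  have hN : normalizer ((U' : Subgroup M) : Set M) = (U' : Subgroup M) := by
    refine (eq_of_le_of_card_ge le_normalizer ?_).symm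
    rw [hU'c, hU', Sylow.coe_subtype, ← subgroupOf_normalizer_eq hU, ← inf_subgroupOf_left,
      Nat.card_congr (subgroupOfEquivOfLe inf_le_left).toEquiv, h23]
  haveI : IsCyclic (U' : Subgroup M) := isCyclic_of_prime_card hU'c
  have hP : normalizer ((U' : Subgroup M) : Set M) ≤ centralizer ((U' : Subgroup M) : Set M) := by
    rw [hN]
    letI := IsCyclic.commGroup (α := ↥(U' : Subgroup M))
    intro a ha
    rw [mem_centralizer_iff]
    intro b hb
    exact congrArg Subtype.val (mul_comm (⟨b, hb⟩ : ↥(U' : Subgroup M)) ⟨a, ha⟩)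
  set f := MonoidHom.transferSylow U' hP
  have hidx : Nat.card f.range = 23 := by
    rw [← index_ker, (MonoidHom.ker_transferSylow_isComplement' U' hP).symm.index_eq_card, hU'c]
  obtain ⟨V, hV⟩ : ∃ V : Sylow 7 Spor.J4, (V : Subgroup Spor.J4) = zpowers (g 6) :=
    ⟨Sylow.ofCard _ (by rw [Nat.card_zpowers, orderOf_eq_prime known.1 known.2.1,
      E.part (n := 1) (by norm_num) (by decide +kernel) (by decide +kernel), pow_one]), Sylow.coe_ofCard _ _⟩
  have hVM : (V : Subgroup Spor.J4) ≤ M := hV.trans_le (zpowers_le.mpr (hM 6 (by norm_num)))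
  set V' : Sylow 7 M := V.subtype hVM with hV'
  have hker : (V' : Subgroup M) ≤ f.ker := fun v hv => by
    rw [MonoidHom.mem_ker, ← orderOf_eq_one_iff]
    have h7 : orderOf (f v) ∣ 7 := by
      refine (orderOf_map_dvd f v).trans ?_
      have h := (V' : Subgroup M).orderOf_dvd_natCard hv
      rwa [hV', Sylow.coe_subtype, Nat.card_congr (subgroupOfEquivOfLe hVM).toEquiv, hV, Nat.card_zpowers,
        orderOf_eq_prime known.1 known.2.1] at h
    have h23' : orderOf (f v) ∣ 23 := (orderOf_dvd_natCard (f v)).trans hU'c.dvd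
    exact Nat.dvd_one.mp (Nat.dvd_gcd h7 h23')
  have hsup := Sylow.normalizer_sup_eq_top (V'.subtype hker)
  rw [Sylow.coe_subtype V', map_subgroupOf_eq_of_le hker] at hsup
  have hrange : (normalizer ((V' : Subgroup M) : Set M)).map f = f.range := by
    have hb : f.ker.map f = ⊥ := (Subgroup.map_eq_bot_iff _).mpr le_rfl
    rw [MonoidHom.range_eq_map, ← hsup, Subgroup.map_sup, hb, sup_bot_eq]
  have h21 : Nat.card (normalizer ((V' : Subgroup M) : Set M)) = 21 := by
    rw [hV', Sylow.coe_subtype, ← subgroupOf_normalizer_eq hVM, ← inf_subgroupOf_left,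
      Nat.card_congr (subgroupOfEquivOfLe inf_le_left).toEquiv, hV]
    exact seven_inf E hM hne
  have hd := card_map_dvd (H := normalizer ((V' : Subgroup M) : Set M)) f
  rw [hrange, hidx, h21] at hd
  norm_num at hd

/-- The normaliser of a Sylow 43-subgroup is not contained in the subgroup. -/
theorem bad_fortyThree [Fact (Nat.Prime 43)] (U : Sylow 43 Spor.J4) :
    Nat.card ↥(M ⊓ normalizer ((U : Subgroup Spor.J4) : Set Spor.J4)) ≠ 602 := by
  haveI := finite_J4
  intro h602
  set V : Subgroup Spor.J4 := (U : Subgroup Spor.J4)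
  have hUc : Nat.card V = 43 := (E.sylow_card (n := 1) (by decide +kernel) (by decide +kernel) U).trans (pow_one _)
  haveI : IsCyclic V := isCyclic_of_prime_card hUc
  obtain ⟨a, ha⟩ : ∃ a : Spor.J4, V = zpowers a := by
    obtain ⟨a, ha⟩ := IsCyclic.exists_generator (α := V)
    exact ⟨a, le_antisymm (fun v hv => by
      obtain ⟨i, hi⟩ := mem_zpowers_iff.mp (ha ⟨v, hv⟩)
      exact mem_zpowers_iff.mpr ⟨i, by simpa using congrArg Subtype.val hi⟩) (zpowers_le.mpr a.2)⟩
  have hao : orderOf a = 43 := by rw [← Nat.card_zpowers, ← ha, hUc]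
  have hc : Nat.card ↥(centralizer ({a} : Set Spor.J4)) = 43 := (E.facts.big 43 14 a (by simp) hao).1
  have hN : Nat.card ↥(normalizer (V : Set Spor.J4)) = 602 := E.norm 43 1 602 (by simp) _ (hUc.trans (pow_one _).symm)
  have hNM : normalizer (V : Set Spor.J4) ≤ M := by
    have := eq_of_le_of_card_ge (inf_le_right : M ⊓ normalizer (V : Set Spor.J4) ≤ _) (by rw [h602, hN])
    exact inf_eq_right.mp this
  set f := V.normalizerMonoidHom
  have hker : Nat.card f.ker ∣ 43 := by
    rw [← hc, ← card_map_of_injective (normalizer (V : Set Spor.J4)).subtype_injective]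
    refine card_dvd_of_le ?_
    rintro _ ⟨x, hx, rfl⟩
    have hx' : x ∈ (centralizer (V : Set Spor.J4)).subgroupOf (normalizer (V : Set Spor.J4)) :=
      V.normalizerMonoidHom_ker ▸ hx
    rw [mem_subgroupOf] at hx'
    exact centralizer_le (Set.singleton_subset_iff.mpr (ha ▸ mem_zpowers a)) hx'
  have h14 : 14 ∣ Nat.card f.range := by
    have h := f.ker.card_mul_index
    rw [index_ker, hN] at h
    rcases (Nat.dvd_prime (by norm_num : Nat.Prime 43)).mp hker with e | e <;> rw [e] at h <;> omega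
  haveI : IsCyclic (MulAut ↥V) := by
    haveI : Fact (Nat.Prime (Nat.card V)) := ⟨by rw [hUc]; norm_num⟩
    exact isCyclic_of_surjective (IsCyclic.mulAutMulEquiv ↥V).symm.toMonoidHom
      (IsCyclic.mulAutMulEquiv ↥V).symm.surjective
  obtain ⟨⟨_, x, rfl⟩, hy⟩ := IsCyclic.exists_ofOrder_eq_natCard (α := f.range)
  have hx : 14 ∣ orderOf (x : Spor.J4) := by
    rw [orderOf_coe]
    refine h14.trans (Eq.dvd hy.symm |>.trans ?_)
    rw [← orderOf_coe]
    exact orderOf_map_dvd f x
  exact no_mix E hM hne _ (hNM x.2) 2 (by simp) ((show 2 ∣ 14 by norm_num).trans hx)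
    ((show 7 ∣ 14 by norm_num).trans hx)

omit hM hne in
theorem isCoatom_S : IsCoatom S := by
  classical
  haveI := finite_J4
  haveI : Fact (Nat.Prime 3) := ⟨by norm_num⟩
  haveI : Fact (Nat.Prime 7) := ⟨by norm_num⟩
  haveI : Fact (Nat.Prime 23) := ⟨by norm_num⟩
  haveI : Fact (Nat.Prime 43) := ⟨by norm_num⟩
  have hS := card_S
  refine ⟨fun h => ?_, fun M hlt => ?_⟩
  · rw [h, card_top, E.card] at hS
    exact absurd hS (by decide)
  by_contra hne
  have hM : ∀ k < 8, g k ∈ M := fun k hk => hlt.le (low_mem k hk)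
  obtain ⟨U7, hU7⟩ : ∃ U : Sylow 7 Spor.J4, (U : Subgroup Spor.J4) = zpowers (g 6) :=
    ⟨Sylow.ofCard _ (by rw [Nat.card_zpowers, orderOf_eq_prime known.1 known.2.1,
      E.part (n := 1) (by norm_num) (by decide +kernel) (by decide +kernel), pow_one]), Sylow.coe_ofCard _ _⟩
  have s7 : r7u.Sound (Nat.card M) := by
    refine sound_exact (q := 7) U7 ?_ ?_ ?_ (by decide) rfl (mod_q M)
    · rw [hU7, zpowers_le]; exact hM 6 (by norm_num)
    · rw [hU7, Nat.card_zpowers, orderOf_eq_prime known.1 known.2.1]; rfl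
    · rw [hU7, seven_inf E hM hne]; rfl
  obtain ⟨U3, hU3⟩ : ∃ U : Sylow 3 Spor.J4, (U : Subgroup Spor.J4) = P3 :=
    ⟨Sylow.ofCard _ (P3_card.trans (three_part E).symm), Sylow.coe_ofCard _ _⟩
  have s3 : r3u.Sound (Nat.card M) := by
    refine sound_exact (q := 3) U3 ?_ ?_ ?_ (by decide) rfl (three_count E hM hne)
    · rw [hU3]; exact P3_le.trans hlt.le
    · rw [hU3, P3_card]; rfl
    · rw [hU3, inf_three E hM hne]; rfl
  have s23 : r23u.Sound (Nat.card M) := by
    refine sound_all (q := 23) ((E.part (n := 1) (by norm_num) (by decide +kernel) (by decide +kernel)).trans (pow_one _))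
      (fun U => ?_) rfl (fun U hU => bad_twentyThree E hM hne U hU) fun _ => mod_q M
    rw [E.norm 23 1 506 (by simp) U (E.sylow_card (by decide +kernel) (by decide +kernel) U)]; decide
  have s43 : (r43 602).Sound (Nat.card M) := by
    refine sound_all (q := 43) ((E.part (n := 1) (by norm_num) (by decide +kernel) (by decide +kernel)).trans (pow_one _))
      (fun U => ?_) rfl (fun U _ => bad_fortyThree E hM hne U) fun _ => mod_q M
    rw [E.norm 43 1 602 (by simp) U (E.sylow_card (by decide +kernel) (by decide +kernel) U)]; decide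
  obtain ⟨k, hk, hMk⟩ := exists_index hlt.le hS (fk := fkV) (by simp [fkV]; norm_num)
    (by rw [E.card]; decide +kernel) (rows := [r3u, r7u, r5 1, r11, r23u, r29, r31 1, r37, r43 602]) (by
      intro r hr
      simp only [List.mem_cons, List.not_mem_nil, or_false] at hr
      rcases hr with rfl | rfl | rfl | rfl | rfl | rfl | rfl | rfl | rfl
      exacts [⟨by simp [r3u]; norm_num, s3⟩, ⟨by simp [r7u]; norm_num, s7⟩, ⟨by simp [r5]; norm_num, E.sound5 M⟩,
        ⟨by simp [r11]; norm_num, E.sound11 M⟩, ⟨by simp [r23u]; norm_num, s23⟩,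
        ⟨by simp [r29]; norm_num, E.sound29 M⟩, ⟨by simp [r31]; norm_num, E.sound31 M⟩,
        ⟨by simp [r37]; norm_num, E.sound37 M⟩, ⟨by simp [r43]; norm_num, s43⟩])
  rw [survivors_ok, List.mem_singleton] at hk
  subst hk
  exact hlt.ne' (eq_of_index_one hlt.le hS hMk)

omit hM hne in
theorem exists_maximal : ∃ M : Subgroup Spor.J4, IsCoatom M ∧
    ∃ (F : Type) (_ : Field F) (_ : Fintype F), Fintype.card F = 9 ∧ Nonempty (↥M ≃* Cfsg.PSU 3 F 3) :=
  ⟨S, isCoatom_S E, exists_iso⟩

end Cfsg.Lib.J4NonLocal.UThree
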