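import Cfsg.Agent.J4NonLocal.UThree.Group
import Cfsg.Agent.J4NonLocal.UThree.Check.AlphaKeys0
import Cfsg.Agent.J4NonLocal.UThree.Check.AlphaKeys1
import Cfsg.Agent.J4NonLocal.UThree.Check.AlphaKeys2
import Cfsg.Agent.J4NonLocal.UThree.Check.AlphaKeys3
import Cfsg.Agent.J4NonLocal.UThree.Check.AlphaKeys4
import Cfsg.Agent.J4NonLocal.UThree.Check.AlphaKeys5
import Cfsg.Agent.J4NonLocal.UThree.Check.AlphaKeys6
import Cfsg.Agent.J4NonLocal.UThree.Check.AlphaKeys7
import Cfsg.Agent.J4NonLocal.UThree.Check.AlphaKeys8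
import Cfsg.Agent.J4NonLocal.UThree.Check.AlphaKeys9
import Cfsg.Agent.J4NonLocal.UThree.Check.AlphaKeys10
import Cfsg.Agent.J4NonLocal.UThree.Check.AlphaKeys11
import Cfsg.Agent.J4NonLocal.UThree.Check.AlphaKeys12
import Cfsg.Agent.J4NonLocal.UThree.Check.BetaKeys0
import Cfsg.Agent.J4NonLocal.UThree.Check.BetaKeys1
import Cfsg.Agent.J4NonLocal.UThree.Check.BetaKeys2
import Cfsg.Agent.J4NonLocal.UThree.Check.BetaKeys3
import Cfsg.Agent.J4NonLocal.UThree.Check.BetaCrt0
import Cfsg.Agent.J4NonLocal.UThree.Check.BetaCrt1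
import Cfsg.Agent.J4NonLocal.UThree.Check.BetaCrt2

/-!
The checks of the two large plans put together, and the meaning of a certificate.
-/

set_option autoImplicit false
set_option maxRecDepth 20000
set_option synthInstance.maxSize 4000
set_option linter.style.haveILetI false
set_option Elab.async false

namespace Cfsg.Lib.J4NonLocal.UThree

open Cfsg Cfsg.Lib.J4Cert Subgroup

attribute [local irreducible] mB tabs4 vt pm ptabs P

theorem incrC_of_get {α : Type} (key : α → ℕ) : ∀ (l : List (List α × ℕ)) (lo : ℕ),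
    (∀ i < l.length, incr key (l.getD i ([], 0)).2 (bif i == 0 then lo else (l.getD (i - 1) ([], 0)).2)
      (l.getD i ([], 0)).1 = true) → incrC key lo l = true
  | [], _, _ => rfl
  | c :: l, lo, h => by
    rw [incrC, Bool.and_eq_true]
    refine ⟨h 0 (by simp), incrC_of_get key l c.2 fun i hi => ?_⟩
    have h' := h (i + 1) (by simpa using hi)
    cases i with
    | zero => exact h'
    | succ i => exact h'

theorem alpha_fix_keys : incr (fun w => act ptabs w alpha.w) (2 ^ 112) 0 alpha.fix = true := by decide +kernel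

theorem beta_fix_keys : incr (fun w => act ptabs w beta.w) (2 ^ 112) 0 beta.fix = true := by decide +kernel

theorem alpha_keys : alpha.keysOK ptabs = true := by
  rw [Plan.keysOK, Bool.and_eq_true]
  refine ⟨alpha_fix_keys, incrC_of_get _ _ _ fun i hi => ?_⟩
  have hl : alpha.chunks.length = 62 := by decide +kernel
  rw [hl] at hi
  interval_cases i
  exacts [alpha_keys0, alpha_keys1, alpha_keys2, alpha_keys3, alpha_keys4, alpha_keys5, alpha_keys6, alpha_keys7,
    alpha_keys8, alpha_keys9, alpha_keys10, alpha_keys11, alpha_keys12, alpha_keys13, alpha_keys14, alpha_keys15,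
    alpha_keys16, alpha_keys17, alpha_keys18, alpha_keys19, alpha_keys20, alpha_keys21, alpha_keys22, alpha_keys23,
    alpha_keys24, alpha_keys25, alpha_keys26, alpha_keys27, alpha_keys28, alpha_keys29, alpha_keys30, alpha_keys31,
    alpha_keys32, alpha_keys33, alpha_keys34, alpha_keys35, alpha_keys36, alpha_keys37, alpha_keys38, alpha_keys39,
    alpha_keys40, alpha_keys41, alpha_keys42, alpha_keys43, alpha_keys44, alpha_keys45, alpha_keys46, alpha_keys47,
    alpha_keys48, alpha_keys49, alpha_keys50, alpha_keys51, alpha_keys52, alpha_keys53, alpha_keys54, alpha_keys55,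
    alpha_keys56, alpha_keys57, alpha_keys58, alpha_keys59, alpha_keys60, alpha_keys61]

theorem beta_keys : beta.keysOK ptabs = true := by
  rw [Plan.keysOK, Bool.and_eq_true]
  refine ⟨beta_fix_keys, incrC_of_get _ _ _ fun i hi => ?_⟩
  have hl : beta.chunks.length = 16 := by decide +kernel
  rw [hl] at hi
  interval_cases i
  exacts [beta_keys0, beta_keys1, beta_keys2, beta_keys3, beta_keys4, beta_keys5, beta_keys6, beta_keys7, beta_keys8,
    beta_keys9, beta_keys10, beta_keys11, beta_keys12, beta_keys13, beta_keys14, beta_keys15]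

theorem beta_crt : conjOK [4] beta.reps betaCrt = true := by
  have h : ∀ L L', conjOK [4] beta.reps L = true → conjOK [4] beta.reps L' = true →
      conjOK [4] beta.reps (L ++ L') = true := fun L L' h h' => by
    simp only [conjOK, List.all_append, Bool.and_eq_true] at *
    exact ⟨h, h'⟩
  exact h _ _ (h _ _ (h _ _ (h _ _ (h _ _ (h _ _ (h _ _ (h _ _ beta_crt0 beta_crt1) beta_crt2) beta_crt3) beta_crt4)
    beta_crt5) beta_crt6) beta_crt7) beta_crt8

/-- No element has order divisible by 7 and by 2, 5 or 11. -/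
def NoMix (H : Subgroup Spor.J4) : Prop :=
  ∀ a ∈ H, ∀ q ∈ [2, 5, 11], q ∣ orderOf a → 7 ∣ orderOf a → False

theorem ev_invW {w : List ℕ} (h : invable w = true) : P.ev (invW w) = (P.ev w)⁻¹ := by
  induction w with
  | nil => rw [invW, P.ev_nil, inv_one]
  | cons k w ih =>
    simp only [invable, List.all_cons, Bool.and_eq_true, List.elem_iff] at h
    rw [invW, P.ev_append, ih h.2, P.ev_cons, mul_inv_rev]
    congr 1
    have hi := inv_ok
    simp only [List.all_eq_true] at hi
    obtain ⟨e, he, hek⟩ := List.mem_map.mp h.1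
    have hf : (invL.find? fun e => e.1 == k).isSome := List.find?_isSome.mpr ⟨e, he, by simp [hek]⟩
    obtain ⟨f, hf'⟩ := Option.isSome_iff_exists.mp hf
    have hfk : f.1 = k := by simpa using List.find?_some hf'
    have hv := P.ev_eq (hi f (List.mem_of_find?_eq_some hf'))
    rw [P.ev_cons, hfk, P.ev_nil] at hv
    rw [inv1, hf', Option.elim_some]
    exact eq_inv_of_mul_eq_one_right hv

theorem pair_false {H : Subgroup Spor.J4} (hH : NoMix H) {w : List ℕ} {q z z' : ℕ} (h : pairOK w q z z' = true)
    (hw : P.ev w ∈ H) : False := by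
  simp only [pairOK, Bool.and_eq_true, List.elem_iff] at h
  have hq : q.Prime := by
    have := h.1.1
    simp only [List.mem_cons, List.not_mem_nil, or_false] at this
    rcases this with rfl | rfl | rfl <;> norm_num
  exact hH _ hw q h.1.1 (P.dvd_order (c := (w, z)) hq (pm_length ▸ h.1.2))
    (P.dvd_order (c := (w, z')) (q := 7) (by norm_num) (pm_length ▸ h.2))

/-- A certified middle factor cannot conjugate the marked letters into the subgroup. -/
theorem conj_false {H : Subgroup Spor.J4} (hH : NoMix H) (hlow : ∀ k < 4, g k ∈ H) {ms : List ℕ}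
    {reps : List (List ℕ)} {L : List (ℕ × ℕ × List ℕ × ℕ × ℕ)} (h : conjOK ms reps L = true)
    (hc : L.map (·.1) = List.range' 1 L.length) {r : ℕ} (hr0 : r ≠ 0) (hr : r < L.length + 1)
    (hm : ∀ k ∈ ms, (P.ev (reps.getD r []))⁻¹ * g k * P.ev (reps.getD r []) ∈ H) : False := by
  obtain ⟨c, hcm, rfl⟩ : ∃ c ∈ L, c.1 = r := List.mem_map.mp (hc ▸ List.mem_range'_1.mpr (by omega))
  simp only [conjOK, List.all_eq_true, Bool.and_eq_true] at h
  obtain ⟨⟨hi, ht⟩, hp⟩ := h c hcm
  refine pair_false hH hp ?_
  rw [conjW]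
  simp only [tokOK, List.all_eq_true, Bool.or_eq_true, Bool.and_eq_true, Nat.blt_eq, Nat.ble_eq] at ht
  generalize c.2.2.1 = tok at ht
  induction tok with
  | nil => exact one_mem H
  | cons a tok ih =>
    rw [List.flatMap_cons, P.ev_append]
    refine mul_mem ?_ (ih fun k hk => ht k (List.mem_cons_of_mem _ hk))
    cases hb : Nat.blt a 4 with
    | true => rw [cond_true, P.ev_single]; exact hlow a (Nat.blt_eq.mp hb)
    | false =>
      have ha : ¬ a < 4 := fun h' => by rw [Nat.blt_eq.mpr h'] at hb; exact Bool.noConfusion hb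
      obtain ⟨h1, h2⟩ := (ht a List.mem_cons_self).resolve_left ha
      have hk : ms.getD (a - 1000) 0 ∈ ms := by
        rw [List.getD_eq_getElem ms _ (by omega : a - 1000 < ms.length)]
        exact List.getElem_mem _
      rw [cond_false, P.ev_append, ev_invW hi, P.ev_cons, ← mul_assoc]
      exact hm _ hk

/-- A proper left factor of the first plan is not in the subgroup. -/
theorem tail_zero {H : Subgroup Spor.J4} (hH : NoMix H) (hlow : ∀ k < 4, g k ∈ H) {l : ℕ}
    (hl : P.ev (alpha.lef.getD l []) ∈ H) : alpha.lef.getD l [] = [] := by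
  by_cases h0 : l = 0
  · rw [h0]; exact alpha_zero.2.2
  by_cases h4 : 4 ≤ l
  · rw [List.getD_eq_default _ _ (by rw [alpha_count.2.2.2]; exact h4)]
  exfalso
  obtain ⟨c, hc, rfl⟩ : ∃ c ∈ alphaTail, c.1 = l :=
    List.mem_map.mp (alpha_cover.2 ▸ (by simp; omega : l ∈ [1, 2, 3]))
  have h := alpha_tail
  simp only [List.all_eq_true, Bool.and_eq_true, Bool.or_eq_true, Nat.blt_eq, Nat.beq_eq] at h
  obtain ⟨ht, hp⟩ := h c hc
  refine pair_false hH hp ?_
  generalize c.2.2.1 = tok at ht
  induction tok with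
  | nil => exact one_mem H
  | cons a tok ih =>
    rw [List.flatMap_cons, P.ev_append]
    refine mul_mem ?_ (ih fun k hk => ht k (List.mem_cons_of_mem _ hk))
    cases hb : Nat.blt a 4 with
    | true => rw [cond_true, P.ev_single]; exact hlow a (Nat.blt_eq.mp hb)
    | false => rw [cond_false]; exact hl

end Cfsg.Lib.J4NonLocal.UThree
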